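import Mathlib
import Groth.Prelude.Def_IdealRed

universe u

namespace Groth.Agent.IdealRedLib

open IdealRed IsLocalRing

variable {R : Type u} [CommRing R]

lemma pow_sup_span_le (a : Ideal R) (r : R) (n : ℕ) :
    (a ⊔ Ideal.span {r}) ^ (n + 1) ≤ a * (a ⊔ Ideal.span {r}) ^ n ⊔ Ideal.span {r ^ (n + 1)} := by
  induction n with
  | zero => simp
  | succ n ih =>
    conv_lhs => rw [pow_succ', Ideal.sup_mul]
    refine sup_le le_sup_left ((Ideal.mul_mono_right ih).trans ?_)
    rw [Ideal.mul_sup]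
    refine sup_le ?_ ?_
    · refine le_sup_of_le_left ?_
      rw [← mul_assoc, mul_comm (Ideal.span {r}), mul_assoc, pow_succ']
      exact Ideal.mul_mono_right (Ideal.mul_mono_left le_sup_right)
    · refine le_sup_of_le_right ?_
      rw [Ideal.span_singleton_mul_span_singleton, ← pow_succ']

lemma pow_mul_pow {a b : Ideal R} {s : ℕ} (hs : a * b ^ s = b ^ (s + 1)) (k : ℕ) :
    a ^ k * b ^ s = b ^ (k + s) := by
  induction k with
  | zero => simp
  | succ k ih =>
    rw [pow_succ', mul_assoc, ih, show k + s = s + k by omega, pow_add, ← mul_assoc, hs, ← pow_add]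
    ring_nf

lemma mul_pow_add {a b : Ideal R} {s : ℕ} (hs : a * b ^ s = b ^ (s + 1)) (k : ℕ) :
    a * b ^ (s + k) = b ^ (s + k + 1) := by
  rw [pow_add, ← mul_assoc, hs, ← pow_add]
  ring_nf

lemma trans {a c b : Ideal R} (h1 : IsReduction a c) (h2 : IsReduction c b) : IsReduction a b := by
  obtain ⟨hac, s, hs⟩ := h1
  obtain ⟨hcb, t, ht⟩ := h2
  refine ⟨hac.trans hcb, s + t, ?_⟩
  rw [← pow_mul_pow ht s, ← mul_assoc, hs, pow_mul_pow ht (s + 1)]
  ring_nf

lemma mono {a a' b : Ideal R} (h : IsReduction a b) (h1 : a ≤ a') (h2 : a' ≤ b) : IsReduction a' b := by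
  obtain ⟨-, s, hs⟩ := h
  exact ⟨h2, s, le_antisymm (by rw [pow_succ']; exact Ideal.mul_mono_left h2)
    (hs.symm.le.trans (Ideal.mul_mono_left h1))⟩

lemma refl (a : Ideal R) : IsReduction a a := ⟨le_rfl, 0, by simp⟩

/-- `r` satisfies an equation of integral dependence over `a`. -/
def Dep (a : Ideal R) (r : R) : Prop :=
  ∃ p : Polynomial R, p.Monic ∧ 0 < p.natDegree ∧ (∀ j : ℕ, p.coeff j ∈ a ^ (p.natDegree - j)) ∧
    Polynomial.eval r p = 0

lemma Dep.mono {a a' : Ideal R} {r : R} (h : a ≤ a') : Dep a r → Dep a' r := by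
  rintro ⟨p, h1, h2, h3, h4⟩
  exact ⟨p, h1, h2, fun j => Ideal.pow_right_mono h _ (h3 j), h4⟩

lemma Dep.isReduction {a : Ideal R} {r : R} (h : Dep a r) : IsReduction a (a ⊔ Ideal.span {r}) := by
  obtain ⟨p, hp, hdeg, hco, hev⟩ := h
  obtain ⟨n, hn⟩ : ∃ n, p.natDegree = n + 1 := ⟨p.natDegree - 1, by omega⟩
  refine ⟨le_sup_left, n, le_antisymm (by rw [pow_succ']; exact Ideal.mul_mono_left le_sup_left)
    ((pow_sup_span_le a r n).trans (sup_le le_rfl ?_))⟩
  rw [Ideal.span_singleton_le_iff_mem]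
  have h1 : r ^ (n + 1) = -∑ j ∈ Finset.range (n + 1), p.coeff j * r ^ j := by
    rw [Polynomial.eval_eq_sum_range, hn, Finset.sum_range_succ,
      show p.coeff (n + 1) = 1 from hn ▸ hp.coeff_natDegree, one_mul] at hev
    linear_combination hev
  rw [h1]
  refine neg_mem (Ideal.sum_mem _ fun j hj => ?_)
  rw [Finset.mem_range] at hj
  have h2 := hco j
  rw [hn, show n + 1 - j = (n - j) + 1 by omega, pow_succ'] at h2
  have h3 : p.coeff j * r ^ j ∈ a * a ^ (n - j) * (a ⊔ Ideal.span {r}) ^ j :=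
    Ideal.mul_mem_mul h2 (Ideal.pow_mem_pow (Submodule.mem_sup_right (Ideal.mem_span_singleton_self r)) j)
  have hle : a * a ^ (n - j) * (a ⊔ Ideal.span {r}) ^ j ≤ a * (a ⊔ Ideal.span {r}) ^ n := by
    calc _ ≤ a * (a ⊔ Ideal.span {r}) ^ (n - j) * (a ⊔ Ideal.span {r}) ^ j :=
          Ideal.mul_mono_left (Ideal.mul_mono_right (Ideal.pow_right_mono le_sup_left _))
      _ = _ := by rw [mul_assoc, ← pow_add, show n - j + j = n by omega]
  exact hle h3

lemma dep_of_isReduction [IsNoetherianRing R] [Nontrivial R] {a b : Ideal R} (h : IsReduction a b) {r : R} (hr : r ∈ b) :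
    Dep a r := by
  obtain ⟨hab, s, hs⟩ := h
  let N : Submodule R R := b ^ s
  let f : Module.End R N := r • LinearMap.id
  have hrange : LinearMap.range f ≤ a • (⊤ : Submodule R N) := by
    rintro _ ⟨x, rfl⟩
    have hx : r * (x : R) ∈ a * b ^ s := by
      rw [hs, pow_succ']
      exact Ideal.mul_mem_mul hr x.2
    have h1 : (a • (⊤ : Submodule R N)).map N.subtype = a * b ^ s := by
      rw [Submodule.map_smul'', Submodule.map_top, Submodule.range_subtype]
      rfl
    obtain ⟨y, hy, hyx⟩ := h1.ge hx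
    rwa [show (f x : N) = y from Subtype.ext hyx.symm]
  obtain ⟨p, hp, -, hco, hev⟩ :=
    LinearMap.exists_monic_and_natDegree_eq_and_coeff_mem_pow_and_aeval_eq_zero R f a hrange
  have hann : ∀ y ∈ b ^ s, Polynomial.eval r p * y = 0 := fun y hy => by
    have h1 : Polynomial.aeval f p = Polynomial.eval r p • (LinearMap.id : Module.End R N) := by
      have h2 : f = algebraMap R (Module.End R N) r := rfl
      rw [h2, Polynomial.aeval_algebraMap_apply_eq_algebraMap_eval]
      rfl
    have := LinearMap.congr_fun (h1.symm.trans hev) ⟨y, hy⟩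
    exact congrArg Subtype.val this
  refine ⟨p * Polynomial.X ^ (s + 1), hp.mul (Polynomial.monic_X_pow _), ?_, fun j => ?_, ?_⟩
  · rw [hp.natDegree_mul (Polynomial.monic_X_pow _), Polynomial.natDegree_X_pow]; omega
  · rw [hp.natDegree_mul (Polynomial.monic_X_pow _), Polynomial.natDegree_X_pow, Polynomial.coeff_mul_X_pow']
    split_ifs with hj
    · rw [show p.natDegree + (s + 1) - j = p.natDegree - (j - (s + 1)) by omega]
      exact hco _
    · exact zero_mem _
  · rw [Polynomial.eval_mul, Polynomial.eval_pow, Polynomial.eval_X, pow_succ, ← mul_assoc,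
      hann _ (Ideal.pow_mem_pow hr s), zero_mul]

lemma isReduction_of_forall_dep {a b : Ideal R} (hb : b.FG) (hab : a ≤ b) (h : ∀ r ∈ b, Dep a r) :
    IsReduction a b := by
  classical
  obtain ⟨S, hS⟩ := hb
  have key : ∀ T : Finset R, T ⊆ S → IsReduction a (a ⊔ Ideal.span (T : Set R)) := by
    intro T
    induction T using Finset.induction with
    | empty => intro _; simpa using refl a
    | insert x T hx ih =>
      intro hsub
      have h2 := ((h x (hS ▸ Submodule.subset_span (hsub (Finset.mem_insert_self x T)))).mono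
        (le_sup_left : a ≤ a ⊔ Ideal.span (T : Set R))).isReduction
      rw [Finset.coe_insert, Ideal.span_insert, sup_comm (Ideal.span {x}), ← sup_assoc]
      exact trans (ih (fun y hy => hsub (Finset.mem_insert_of_mem hy))) h2
  have := key S subset_rfl
  rwa [show Ideal.span (S : Set R) = b from hS, sup_eq_right.mpr hab] at this

section Local

variable [IsNoetherianRing R] [IsLocalRing R]

lemma le_of_le_sup_mul {N N' : Ideal R} (h : N ≤ N' ⊔ N * maximalIdeal R) : N ≤ N' := by
  rw [mul_comm] at h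
  exact Submodule.le_of_le_smul_of_le_jacobson_bot (IsNoetherian.noetherian N) (maximalIdeal_le_jacobson _) h

lemma isReduction_sup_iff {a b : Ideal R} (hab : a ≤ b) :
    IsReduction a b ↔ IsReduction (a ⊔ b * maximalIdeal R) b := by
  refine ⟨fun h => mono h le_sup_left (sup_le hab Ideal.mul_le_left), fun ⟨_, s, hs⟩ => ⟨hab, s, ?_⟩⟩
  refine le_antisymm (by rw [pow_succ']; exact Ideal.mul_mono_left hab) (le_of_le_sup_mul ?_)
  conv_lhs => rw [← hs, Ideal.sup_mul]
  refine sup_le_sup_left (le_of_eq ?_) _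
  rw [pow_succ']
  ring

/-- Analytic independence. -/
def Indep (b : Ideal R) {t : ℕ} (v : Fin t → R) : Prop :=
  ∀ (h : ℕ) (f : MvPolynomial (Fin t) R), f.IsHomogeneous h →
    MvPolynomial.eval v f ∈ b ^ h * maximalIdeal R → ∀ d : Fin t →₀ ℕ, f.coeff d ∈ maximalIdeal R

/-- The linear substitution given by a matrix. -/
noncomputable def lin {t s : ℕ} (D : Matrix (Fin t) (Fin s) R) (j : Fin t) : MvPolynomial (Fin s) R :=
  ∑ i, MvPolynomial.C (D j i) * MvPolynomial.X i

omit [IsNoetherianRing R] [IsLocalRing R] in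
lemma eval_lin {t s : ℕ} (D : Matrix (Fin t) (Fin s) R) (v : Fin s → R) (j : Fin t) :
    MvPolynomial.eval v (lin D j) = ∑ i, D j i * v i := by simp [lin]

omit [IsNoetherianRing R] [IsLocalRing R] in
lemma lin_isHomogeneous {t s : ℕ} (D : Matrix (Fin t) (Fin s) R) (j : Fin t) : (lin D j).IsHomogeneous 1 :=
  MvPolynomial.IsHomogeneous.sum _ _ _ fun i _ => by
    simpa using (MvPolynomial.isHomogeneous_C _ (D j i)).mul (MvPolynomial.isHomogeneous_X _ i)

lemma mul_sub_one_mem {b : Ideal R} {t s : ℕ} {v : Fin t → R} {w : Fin s → R} (hind : Indep b v)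
    {C : Matrix (Fin t) (Fin s) R} {D : Matrix (Fin s) (Fin t) R}
    (hC : ∀ i, ∑ j, C i j * w j = v i) (hD : ∀ j, ∑ l, D j l * v l = w j) :
    (C * D).map (residue R) = 1 := by
  ext i l
  have hev : MvPolynomial.eval v (lin (C * D - 1) i) ∈ b ^ 1 * maximalIdeal R := by
    have h1 : ∑ l, (C * D) i l * v l = v i := by
      simp only [Matrix.mul_apply, Finset.sum_mul]
      rw [Finset.sum_comm]
      simp only [mul_assoc, ← Finset.mul_sum, hD, hC]
    rw [eval_lin]
    simp [sub_mul, h1, Matrix.one_apply]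
  have h2 := hind 1 _ (lin_isHomogeneous _ i) hev (Finsupp.single l 1)
  classical
  have h3 : (lin (C * D - 1) i).coeff (Finsupp.single l 1) = ((C * D - 1 : Matrix (Fin t) (Fin t) R)) i l := by
    rw [lin, MvPolynomial.coeff_sum, Finset.sum_eq_single l]
    · rw [MvPolynomial.coeff_C_mul, MvPolynomial.coeff_X, if_pos rfl, mul_one]
    · intro x _ hx
      rw [MvPolynomial.coeff_C_mul, MvPolynomial.coeff_X, if_neg, mul_zero]
      simp [Finsupp.single_left_inj, hx]
    · simp
  rw [h3, ← residue_eq_zero_iff, Matrix.sub_apply, map_sub, sub_eq_zero] at h2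
  rw [Matrix.map_apply, h2, Matrix.one_apply, Matrix.one_apply]
  split_ifs <;> simp

lemma spanFinrank_of_indep {b : Ideal R} {t : ℕ} {v : Fin t → R} (hind : Indep b v) :
    (Ideal.span (Set.range v)).spanFinrank = t := by
  refine le_antisymm ((Submodule.spanFinrank_span_le_ncard_of_finite (Set.finite_range v)).trans ?_) ?_
  · calc (Set.range v).ncard = (v '' Set.univ).ncard := by rw [Set.image_univ]
      _ ≤ (Set.univ : Set (Fin t)).ncard := Set.ncard_image_le
      _ = t := by simp
  · obtain ⟨S, hcard, hS⟩ := (Submodule.fg_span (R := R) (Set.finite_range v)).exists_span_finset_card_eq_spanFinrank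
    let w : Fin S.card → R := fun j => (S.equivFin.symm j : R)
    have hw : Set.range w = (S : Set R) := by
      ext x
      exact ⟨fun ⟨j, hj⟩ => hj ▸ (S.equivFin.symm j).2, fun hx => ⟨S.equivFin ⟨x, hx⟩, by simp [w]⟩⟩
    have hC : ∀ i, ∃ c : Fin S.card → R, ∑ j, c j * w j = v i := fun i => by
      refine (Ideal.mem_span_range_iff_exists_fun).mp ?_
      rw [hw]
      exact (show Ideal.span (S : Set R) = Ideal.span (Set.range v) from hS).ge (Ideal.subset_span ⟨i, rfl⟩)
    have hD : ∀ j, ∃ c : Fin t → R, ∑ l, c l * v l = w j := fun j => by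
      refine (Ideal.mem_span_range_iff_exists_fun).mp ?_
      exact (show Ideal.span (S : Set R) = Ideal.span (Set.range v) from hS).le (Ideal.subset_span (hw ▸ ⟨j, rfl⟩))
    choose C hC using hC
    choose D hD using hD
    let C' : Matrix (Fin t) (Fin S.card) R := C
    let D' : Matrix (Fin S.card) (Fin t) R := D
    have h := mul_sub_one_mem hind (C := C') (D := D') hC hD
    rw [Matrix.map_mul] at h
    have h2 := Matrix.rank_mul_le_left ((Matrix.of C).map (residue R)) ((Matrix.of D).map (residue R))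
    rw [show (Matrix.of C).map (residue R) * (Matrix.of D).map (residue R) = 1 from h, Matrix.rank_one,
      Fintype.card_fin] at h2
    exact hcard ▸ h2.trans ((Matrix.rank_le_card_width _).trans (by simp))

lemma indep_of_span_eq {b : Ideal R} {t : ℕ} {v w : Fin t → R} (hind : Indep b v)
    (hw : Ideal.span (Set.range w) = Ideal.span (Set.range v)) : Indep b w := by
  have hC : ∀ i, ∃ c : Fin t → R, ∑ j, c j * w j = v i := fun i =>
    (Ideal.mem_span_range_iff_exists_fun).mp (hw ▸ Ideal.subset_span ⟨i, rfl⟩)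
  have hD : ∀ j, ∃ c : Fin t → R, ∑ l, c l * v l = w j := fun j =>
    (Ideal.mem_span_range_iff_exists_fun).mp (hw ▸ Ideal.subset_span ⟨j, rfl⟩)
  choose C hC using hC
  choose D hD using hD
  let C' : Matrix (Fin t) (Fin t) R := C
  let D' : Matrix (Fin t) (Fin t) R := D
  have h := mul_sub_one_mem hind (C := C') (D := D') hC hD
  rw [Matrix.map_mul, mul_eq_one_comm] at h
  intro n f hf hev
  have hg := hind n (MvPolynomial.bind₁ (lin D') f) (by
    have h9 := hf.eval₂ (n := 1) MvPolynomial.C (lin D') (fun r => MvPolynomial.isHomogeneous_C _ r)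
      (lin_isHomogeneous D')
    rw [one_mul] at h9
    exact h9) (by
    rwa [← MvPolynomial.aeval_eq_eval, MvPolynomial.aeval_bind₁, MvPolynomial.aeval_eq_eval,
      show (fun i => MvPolynomial.aeval v (lin D' i)) = w from funext fun j => by
        rw [MvPolynomial.aeval_eq_eval, eval_lin]; exact hD j])
  have h0 : MvPolynomial.map (residue R) (MvPolynomial.bind₁ (lin D') f) = 0 := by
    ext d
    rw [MvPolynomial.coeff_map, MvPolynomial.coeff_zero, residue_eq_zero_iff]
    exact hg d
  have h1 : MvPolynomial.map (residue R) (MvPolynomial.bind₁ (lin C') (MvPolynomial.bind₁ (lin D') f)) = 0 := by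
    rw [MvPolynomial.map_bind₁, h0, map_zero]
  have h2 : ∀ j, MvPolynomial.map (residue R) (MvPolynomial.bind₁ (lin C') (lin D' j)) = MvPolynomial.X j := by
    intro j
    simp only [lin, map_sum, map_mul, MvPolynomial.bind₁_C_right, MvPolynomial.bind₁_X_right,
      MvPolynomial.map_C, MvPolynomial.map_X, Finset.mul_sum]
    rw [Finset.sum_comm]
    simp only [← mul_assoc, ← Finset.sum_mul]
    have hDC : ∀ l, ∑ i, residue R (D' j i) * residue R (C' i l) = if j = l then 1 else 0 := fun l => by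
      have := congrFun (congrFun h j) l
      simpa [Matrix.mul_apply, Matrix.one_apply] using this
    have key : ∀ x, ∑ i, MvPolynomial.C (σ := Fin t) (residue R (D' j i)) * MvPolynomial.C (residue R (C' i x))
        = MvPolynomial.C (if j = x then 1 else 0) := fun x => by
      rw [← hDC x, map_sum]
      exact Finset.sum_congr rfl fun i _ => (map_mul _ _ _).symm
    refine (Finset.sum_congr rfl fun x _ => congrArg (· * MvPolynomial.X x) (key x)).trans ?_
    simp [apply_ite MvPolynomial.C, ite_mul]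
  rw [MvPolynomial.bind₁_bind₁, MvPolynomial.map_bind₁, funext h2, MvPolynomial.bind₁_X_left, AlgHom.id_apply] at h1
  intro d
  rw [← residue_eq_zero_iff, ← MvPolynomial.coeff_map, h1, MvPolynomial.coeff_zero]

/-- The subspace of `b / m b` cut out by an ideal. -/
noncomputable def im (b c : Ideal R) : Submodule R (↥b ⧸ (maximalIdeal R • ⊤ : Submodule R ↥b)) :=
  (Submodule.comap (Submodule.subtype b) c).map (maximalIdeal R • ⊤ : Submodule R ↥b).mkQ

omit [IsNoetherianRing R] in
lemma mem_smul_top_iff (b : Ideal R) (x : ↥b) :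
    x ∈ (maximalIdeal R • ⊤ : Submodule R ↥b) ↔ (x : R) ∈ b * maximalIdeal R := by
  have h : (maximalIdeal R • ⊤ : Submodule R ↥b).map (Submodule.subtype b) = b * maximalIdeal R := by
    rw [Submodule.map_smul'', Submodule.map_top, Submodule.range_subtype, mul_comm]
    rfl
  rw [← h]
  exact ⟨fun hx => Submodule.mem_map_of_mem hx, fun ⟨y, hy, hxy⟩ => Subtype.ext hxy ▸ hy⟩

instance isArtinian_quot (b : Ideal R) : IsArtinian R (↥b ⧸ (maximalIdeal R • ⊤ : Submodule R ↥b)) := by
  letI := Ideal.Quotient.field (maximalIdeal R)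
  haveI : Module.Finite (R ⧸ maximalIdeal R) (↥b ⧸ (maximalIdeal R • ⊤ : Submodule R ↥b)) :=
    Module.Finite.of_restrictScalars_finite R _ _
  exact isArtinian_of_surjective_algebraMap (R := R ⧸ maximalIdeal R) Ideal.Quotient.mk_surjective

lemma le_sup_of_im_eq {b c d : Ideal R} (hc : c ≤ b) (hd : d ≤ c) (h : im b d = im b c) :
    c ≤ d ⊔ c ⊓ (b * maximalIdeal R) := by
  intro x hx
  have : (maximalIdeal R • ⊤ : Submodule R ↥b).mkQ ⟨x, hc hx⟩ ∈ im b d :=
    h ▸ Submodule.mem_map_of_mem (show (⟨x, hc hx⟩ : ↥b) ∈ Submodule.comap (Submodule.subtype b) c from hx)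
  obtain ⟨y, hy, hxy⟩ := this
  have h1 := (mem_smul_top_iff b _).mp ((Submodule.Quotient.eq _).mp hxy.symm)
  rw [show x = (y : R) + (x - y) by ring]
  exact Submodule.add_mem_sup hy ⟨c.sub_mem hx (hd hy), h1⟩

/-- Lifts of a basis: a subideal with the same image and no extra relations modulo `b m`. -/
lemma exists_core {b c : Ideal R} :
    ∃ c', c' ≤ c ∧ c ≤ c' ⊔ b * maximalIdeal R ∧ c' ⊓ b * maximalIdeal R ≤ c' * maximalIdeal R := by
  classical
  let P : ℕ → Prop := fun k => ∃ T : Finset R, T.card = k ∧ (T : Set R) ⊆ c ∧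
    c ≤ Ideal.span (T : Set R) ⊔ b * maximalIdeal R
  obtain ⟨S, hS⟩ := IsNoetherian.noetherian c
  have hex : ∃ k, P k := ⟨S.card, S, rfl, fun x hx => hS ▸ Submodule.subset_span hx,
    le_sup_of_le_left hS.symm.le⟩
  obtain ⟨T, hcard, hTc, hT⟩ := Nat.find_spec hex
  refine ⟨Ideal.span (T : Set R), Ideal.span_le.mpr hTc, hT, ?_⟩
  rintro x ⟨hx, hxm⟩
  obtain ⟨g, hg⟩ := (Submodule.mem_span_finset).mp hx |>.imp fun g hg => hg.2
  by_cases hall : ∀ y ∈ T, g y ∈ maximalIdeal R
  · rw [← hg]
    exact Ideal.sum_mem _ fun y hy => by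
      rw [smul_eq_mul, mul_comm (g y)]
      exact Ideal.mul_mem_mul (Ideal.subset_span hy) (hall y hy)
  · push Not at hall
    obtain ⟨y, hy, hgy⟩ := hall
    exfalso
    refine Nat.find_min hex (m := (T.erase y).card) (hcard ▸ Finset.card_erase_lt_of_mem hy) ⟨T.erase y, rfl,
      fun z hz => hTc (Finset.mem_of_mem_erase hz), hT.trans (sup_le (Ideal.span_le.mpr fun z hz => ?_) le_sup_right)⟩
    by_cases hzy : z = y
    · subst hzy
      obtain ⟨u, hu⟩ := (notMem_maximalIdeal.mp hgy)
      rw [← Finset.add_sum_erase _ _ hy, ← hu, smul_eq_mul] at hg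
      have : (u : R) * z ∈ Ideal.span ((T.erase z : Finset R) : Set R) ⊔ b * maximalIdeal R := by
        rw [show (u : R) * z = x + (-∑ w ∈ T.erase z, g w • w) by rw [← hg]; ring]
        exact add_mem (Submodule.mem_sup_right hxm) (Submodule.mem_sup_left (neg_mem
          (Submodule.sum_mem _ fun w hw => Submodule.smul_mem _ _ (Ideal.subset_span hw))))
      exact (Ideal.unit_mul_mem_iff_mem _ u.isUnit).mp this
    · exact Submodule.mem_sup_left (Ideal.subset_span (Finset.mem_erase.mpr ⟨hzy, hz⟩))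

theorem exists_isMinimalReduction {a b : Ideal R} (hab : IsReduction a b) :
    ∃ c, c ≤ a ∧ IsMinimalReduction c b ∧ c ⊓ b * maximalIdeal R = c * maximalIdeal R := by
  obtain ⟨V, ⟨c, hc, hca, rfl⟩, hmin⟩ := wellFounded_lt.has_min
    {V | ∃ c, IsReduction c b ∧ c ≤ a ∧ im b c = V} ⟨_, a, hab, le_rfl, rfl⟩
  obtain ⟨c', hc'c, hcc', hc'm⟩ := exists_core (b := b) (c := c)
  have hc'b := hc'c.trans hc.1
  have hc' : IsReduction c' b :=
    (isReduction_sup_iff hc'b).mpr (mono hc hcc' (sup_le hc'b Ideal.mul_le_left))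
  refine ⟨c', hc'c.trans hca, ⟨hc', fun d hd hdc => le_antisymm hdc ?_⟩,
    le_antisymm hc'm (le_inf Ideal.mul_le_left (Ideal.mul_mono_left hc'b))⟩
  have h1 : im b d ≤ im b c' := Submodule.map_mono (Submodule.comap_mono hdc)
  have h2 : im b c' ≤ im b c := Submodule.map_mono (Submodule.comap_mono hc'c)
  have h3 : im b d = im b c := (h1.trans h2).eq_of_not_lt fun hlt =>
    hmin _ ⟨d, hd, (hdc.trans hc'c).trans hca, rfl⟩ hlt
  have h4 := le_sup_of_im_eq hc'b hdc (le_antisymm h1 (h3 ▸ h2))
  exact le_of_le_sup_mul (h4.trans (sup_le_sup_left hc'm _))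

theorem inf_mul_eq {a b : Ideal R} (h : IsMinimalReduction a b) :
    a ⊓ b * maximalIdeal R = a * maximalIdeal R := by
  obtain ⟨c, hca, hc, heq⟩ := exists_isMinimalReduction h.1
  rwa [h.2 c hc.1 hca] at heq

omit [IsNoetherianRing R] [IsLocalRing R] in
lemma prod_sub_prod_mem {ι : Type*} (a a' : Ideal R) (x y : ι → R) (hx : ∀ i, x i ∈ a) (hy : ∀ i, y i ∈ a)
    (hxy : ∀ i, x i - y i ∈ a') : ∀ (n : ℕ) (s : Multiset ι), s.card = n + 1 →
    (s.map x).prod - (s.map y).prod ∈ a' * a ^ n := by
  intro n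
  induction n with
  | zero =>
    intro s hs
    obtain ⟨i, rfl⟩ := Multiset.card_eq_one.mp hs
    simpa using hxy i
  | succ n ih =>
    intro s hs
    obtain ⟨i, hi⟩ := Multiset.card_pos_iff_exists_mem.mp (show 0 < s.card by omega)
    obtain ⟨s', rfl⟩ := Multiset.exists_cons_of_mem hi
    rw [Multiset.card_cons, add_left_inj] at hs
    have hx' : (s'.map x).prod ∈ a ^ (n + 1) := by
      rw [← hs]
      clear hs hi
      induction s' using Multiset.induction with
      | empty => simp
      | cons j s' ih' => simpa [pow_succ'] using Ideal.mul_mem_mul (hx j) ih'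
    rw [Multiset.map_cons, Multiset.map_cons, Multiset.prod_cons, Multiset.prod_cons,
      show ∀ p q p' q' : R, p * p' - q * q' = (p - q) * p' + q * (p' - q') from fun _ _ _ _ => by ring]
    refine add_mem (Ideal.mul_mem_mul (hxy i) hx') ?_
    have h1 := Ideal.mul_mem_mul (hy i) (ih s' hs)
    rwa [← mul_assoc, mul_comm a a', mul_assoc, ← pow_succ'] at h1

omit [IsNoetherianRing R] [IsLocalRing R] in
lemma eval_sub_eval_mem {t n : ℕ} (a a' : Ideal R) {f : MvPolynomial (Fin t) R} (hf : f.IsHomogeneous (n + 1))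
    (x y : Fin t → R) (hx : ∀ i, x i ∈ a) (hy : ∀ i, y i ∈ a) (hxy : ∀ i, x i - y i ∈ a') :
    MvPolynomial.eval x f - MvPolynomial.eval y f ∈ a' * a ^ n := by
  classical
  rw [MvPolynomial.eval_eq', MvPolynomial.eval_eq', ← Finset.sum_sub_distrib]
  refine Ideal.sum_mem _ fun d hd => ?_
  rw [← mul_sub]
  refine Ideal.mul_mem_left _ _ ?_
  have key : ∀ z : Fin t → R, ((Finsupp.toMultiset d).map z).prod = ∏ i, z i ^ d i := fun z => by
    simp [Finsupp.toMultiset_map, Finsupp.prod_toMultiset, Finsupp.prod_mapDomain_index, pow_add,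
      Finsupp.prod_fintype]
  rw [← key, ← key]
  refine prod_sub_prod_mem a a' x y hx hy hxy n _ ?_
  have h1 := hf (MvPolynomial.mem_support_iff.mp hd)
  rw [Finsupp.weight_apply] at h1
  rw [Finsupp.card_toMultiset]
  simpa [Finsupp.sum] using h1

omit [IsNoetherianRing R] [IsLocalRing R] in
lemma eval_mul_homogeneous {t h : ℕ} {f : MvPolynomial (Fin t) R} (hf : f.IsHomogeneous h)
    (c : Fin t → R) (u : R) :
    MvPolynomial.eval (fun i => c i * u) f = MvPolynomial.eval c f * u ^ h := by
  classical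
  rw [MvPolynomial.eval_eq', MvPolynomial.eval_eq', Finset.sum_mul]
  refine Finset.sum_congr rfl fun d hd => ?_
  have h1 := hf (MvPolynomial.mem_support_iff.mp hd)
  rw [Finsupp.weight_apply, Finsupp.sum_fintype _ _ (fun _ => by simp)] at h1
  simp only [Pi.one_apply, smul_eq_mul, mul_one] at h1
  rw [Finset.prod_congr rfl (fun i _ => mul_pow (c i) u (d i)), Finset.prod_mul_distrib,
    Finset.prod_pow_eq_pow_sum, h1]
  ring

theorem indep_of_isMinimalReduction (hinf : Infinite (ResidueField R)) {a b : Ideal R} (hb : b ≠ ⊤)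
    (hab : IsMinimalReduction a b) {t : ℕ} {v : Fin t → R} (hva : Ideal.span (Set.range v) = a)
    (ht : a.spanFinrank = t) : Indep b v := by
  classical
  intro h f hf hev
  by_contra hne
  push Not at hne
  obtain ⟨d, hd⟩ := hne
  obtain ⟨n, rfl⟩ : ∃ n, h = n + 1 := by
    refine ⟨h - 1, ?_⟩
    by_contra hh
    have h0 : h = 0 := by omega
    subst h0
    have hC : f = MvPolynomial.C (f.coeff 0) := MvPolynomial.totalDegree_eq_zero_iff_eq_C.mp
      (Nat.le_zero.mp hf.totalDegree_le)
    rw [hC, MvPolynomial.eval_C, pow_zero, one_mul] at hev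
    rw [hC, MvPolynomial.coeff_C] at hd
    split_ifs at hd with h1
    · exact hd hev
    · exact hd (zero_mem _)
  obtain ⟨l⟩ : Nonempty (Fin t) := by
    by_contra hemp
    rw [not_nonempty_iff] at hemp
    have : d = 0 := Subsingleton.elim _ _
    subst this
    have := hf.coeff_eq_zero (d := 0) (by simp)
    exact hd (this ▸ zero_mem _)
  have hq : MvPolynomial.map (residue R) f * MvPolynomial.X l ≠ 0 := mul_ne_zero
    (fun h0 => hd (by rw [← residue_eq_zero_iff, ← MvPolynomial.coeff_map, h0, MvPolynomial.coeff_zero]))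
    (MvPolynomial.X_ne_zero l)
  obtain ⟨cb, hcb⟩ : ∃ cb, MvPolynomial.eval cb (MvPolynomial.map (residue R) f * MvPolynomial.X l) ≠ 0 := by
    by_contra hall
    push Not at hall
    exact hq (MvPolynomial.funext fun x => by rw [hall x, map_zero])
  choose lift hlift using residue_surjective (R := R)
  let c : Fin t → R := fun i => lift (cb i)
  rw [map_mul, MvPolynomial.eval_X, show cb = residue R ∘ c from funext fun i => (hlift _).symm,
    ← MvPolynomial.map_eval, mul_ne_zero_iff] at hcb
  obtain ⟨hfc, hcl⟩ := hcb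
  obtain ⟨cl, hcl⟩ := notMem_maximalIdeal.mp (fun h => hcl (residue_eq_zero_iff _ |>.mpr h))
  obtain ⟨fc, hfc⟩ := notMem_maximalIdeal.mp (fun h => hfc (residue_eq_zero_iff _ |>.mpr h))
  let u : R := (↑cl⁻¹ : R) * v l
  let w : Fin t → R := fun j => v j - c j * u
  let a' : Ideal R := Ideal.span (Set.range w)
  have hva' : ∀ i, v i ∈ a := fun i => hva ▸ Ideal.subset_span ⟨i, rfl⟩
  have hu : u ∈ a := a.mul_mem_left _ (hva' l)
  have ha'a : a' ≤ a := Ideal.span_le.mpr (by
    rintro _ ⟨j, rfl⟩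
    exact a.sub_mem (hva' j) (a.mul_mem_left _ hu))
  have hsup : a = a' ⊔ Ideal.span {u} := by
    refine le_antisymm ?_ (sup_le ha'a ((Ideal.span_singleton_le_iff_mem _).mpr hu))
    rw [← hva, Ideal.span_le]
    rintro _ ⟨j, rfl⟩
    rw [show v j = w j + c j * u by simp [w]]
    exact Submodule.add_mem_sup (Ideal.subset_span ⟨j, rfl⟩) (Ideal.mul_mem_left _ _ (Ideal.mem_span_singleton_self u))
  obtain ⟨-, s, hs⟩ := hab.1
  have hdiff := eval_sub_eval_mem a a' hf v (fun i => c i * u) hva' (fun i => a.mul_mem_left _ hu)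
    (fun i => Ideal.subset_span ⟨i, rfl⟩)
  rw [eval_mul_homogeneous hf, ← hfc] at hdiff
  have hup : u ^ (n + 1) ∈ a' * a ^ n ⊔ b ^ (n + 1) * maximalIdeal R := by
    rw [← Ideal.unit_mul_mem_iff_mem _ fc.isUnit,
      show (fc : R) * u ^ (n + 1) = -(MvPolynomial.eval v f - fc * u ^ (n + 1)) + MvPolynomial.eval v f by ring]
    exact Submodule.add_mem_sup (neg_mem hdiff) hev
  have han : a ^ (n + 1) ≤ a' * a ^ n ⊔ b ^ (n + 1) * maximalIdeal R := by
    conv_lhs => rw [hsup]
    refine (pow_sup_span_le a' u n).trans (sup_le ?_ ((Ideal.span_singleton_le_iff_mem _).mpr hup))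
    rw [← hsup]
    exact le_sup_left
  have hred : IsReduction a' b := by
    refine ⟨ha'a.trans hab.1.1, n + s, le_antisymm (by rw [pow_succ']; exact Ideal.mul_mono_left (ha'a.trans hab.1.1))
      (le_of_le_sup_mul ?_)⟩
    conv_lhs => rw [show n + s + 1 = n + 1 + s by omega, ← pow_mul_pow hs (n + 1)]
    refine (Ideal.mul_mono_left han).trans ?_
    rw [Ideal.sup_mul, mul_assoc, pow_mul_pow hs n]
    refine sup_le_sup_left (le_of_eq ?_) _
    rw [show n + s + 1 = n + 1 + s by omega, pow_add]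
    ring
  have hwl : w l = 0 := by simp [w, u, c, ← hcl]
  have hle : a.spanFinrank < t := by
    rw [← hab.2 a' hred ha'a]
    have h1 : a' = Ideal.span (w '' ({l}ᶜ : Set (Fin t))) := by
      refine le_antisymm (Ideal.span_le.mpr ?_) (Ideal.span_mono (Set.image_subset_range _ _))
      rintro _ ⟨j, rfl⟩
      by_cases hj : j = l
      · rw [hj, hwl]; exact zero_mem _
      · exact Ideal.subset_span ⟨j, hj, rfl⟩
    rw [h1]
    refine (Submodule.spanFinrank_span_le_ncard_of_finite (Set.toFinite _)).trans_lt ?_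
    refine (Set.ncard_image_le (Set.toFinite _)).trans_lt ?_
    calc ({l}ᶜ : Set (Fin t)).ncard < (Set.univ : Set (Fin t)).ncard :=
          Set.ncard_lt_ncard (by simp [Set.ssubset_univ_iff])
      _ = t := by simp
  omega

end Local

end Groth.Agent.IdealRedLib
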